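import Cfsg.Agent.M11Order.Base
import Cfsg.Agent.SylowToolkit.Basic
import Cfsg.Agent.SylowToolkit.Transfer
import Cfsg.Agent.Blocks.OrderP.Principal
import Cfsg.Agent.Blocks.PrimeGram.BlockEquation
import Mathlib

/-!
# A lower bound for the order of a simple group with a Sylow subgroup of order p

If `G` is non-commutative simple with Sylow `p`-subgroups of order `p`, then `|G| ≥ p(p²-1)/2`:
otherwise all non-exceptional nontrivial characters of the principal block have degree `n_p`, and
the degree of an exceptional one contradicts divisibility.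
-/

set_option autoImplicit false
set_option linter.style.haveILetI false

namespace CfsgLib.LeastNonClosed

open Cfsg CfsgLib.Chars CfsgLib.SylowToolkit Subgroup

variable {G : Type*} [Group G] [Fintype G] [IsSimpleGroup G] {p : ℕ} [hp : Fact p.Prime]

/-- Brauer's bound, weak form. -/
theorem two_mul_card_ge (hp2 : p ≠ 2) (hc : ¬ IsMulCommutative G) (P : Sylow p G)
    (hP : Nat.card (P : Subgroup G) = p) : p * (p ^ 2 - 1) ≤ 2 * Nat.card G := by
  classical
  have hp3 : 3 ≤ p := by have := hp.out.two_le; omega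
  obtain ⟨w, hw⟩ := hp.out.odd_of_ne_two hp2
  have hdG : p ∣ Nat.card G := by
    have := (P : Subgroup G).card_subgroup_dvd_card
    rwa [hP] at this
  obtain ⟨u, hu, hz, hidx⟩ := CfsgLib.Blocks.OrderP.exists_generator_sylow P hP
  set N := normalizer ((P : Subgroup G) : Set G) with hN
  set C := centralizer ((P : Subgroup G) : Set G) with hC
  set e := C.relIndex N with he
  have heC : e * Nat.card C = Nat.card N :=
    CfsgLib.PrimeGram.relIndex_mul_centralizer (P : Subgroup G)
  have hPC : (P : Subgroup G) ≤ C := by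
    haveI : IsCyclic (P : Subgroup G) := isCyclic_of_prime_card hP
    exact Subgroup.le_centralizer (P : Subgroup G)
  obtain ⟨c, hcC⟩ : p ∣ Nat.card C := by
    have := card_dvd_of_le hPC
    rwa [hP] at this
  have he2 : 2 ≤ e := by
    have h1 : e ≠ 0 := by rintro h; rw [h, zero_mul] at heC; exact Nat.card_pos.ne' heC.symm
    have h2 : e ≠ 1 := fun h => not_normalizer_le_centralizer hc hdG P (relIndex_eq_one.mp h)
    omega
  have hediv : e ∣ p - 1 := relIndex_centralizer_dvd_sub_one P hP
  have hn := card_normalizer_mul P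
  set n := Nat.card (Sylow p G)
  have hn1 : n % p = 1 := card_sylow_mod
  have hn2 : p + 1 ≤ n := by
    have h1 : 1 < n := one_lt_card_sylow hc hdG
    have h2 := Nat.div_add_mod n p
    rw [hn1] at h2
    have h3 : n / p ≠ 0 := fun h => by rw [h] at h2; omega
    have : p * 1 ≤ p * (n / p) := Nat.mul_le_mul_left p (Nat.pos_of_ne_zero h3)
    omega
  have hG : Nat.card G = p * (n * (e * c)) := by rw [← hn, ← heC, hcC]; ring
  have hnd : ¬ p ∣ n * (e * c) := by
    intro h
    refine hidx ?_
    have hci := (zpowers u).card_mul_index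
    rw [Nat.card_zpowers, hu, hG] at hci
    rwa [Nat.eq_of_mul_eq_mul_left hp.out.pos hci]
  have hc0 : 0 < c := by
    rcases Nat.eq_zero_or_pos c with h | h
    · subst h; simp at hnd
    · exact h
  by_contra hlt
  push Not at hlt
  rw [hG] at hlt
  have hm2 : 2 * (n * (e * c)) < p ^ 2 - 1 := by
    by_contra hge
    push Not at hge
    have : p * (p ^ 2 - 1) ≤ p * (2 * (n * (e * c))) := Nat.mul_le_mul_left p hge
    rw [Nat.mul_left_comm 2 p] at hlt
    omega
  have hsq : p ^ 2 - 1 = (p + 1) * (p - 1) := by rw [← Nat.sq_sub_sq, one_pow]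
  have hec : 2 * (e * c) + 1 ≤ p := by
    by_contra h
    push Not at h
    have h1 : (p + 1) * (p + 1) ≤ n * (2 * (e * c)) := Nat.mul_le_mul hn2 (by omega)
    have h2 : (p + 1) * (p - 1) ≤ (p + 1) * (p + 1) := Nat.mul_le_mul_left _ (by omega)
    rw [hsq] at hm2
    rw [show n * (2 * (e * c)) = 2 * (n * (e * c)) by ring] at h1
    omega
  have hnZ : ((n : ℤ) : ZMod p) = 1 := by
    rw [Int.cast_natCast, ← ZMod.natCast_mod, hn1, Nat.cast_one]
  have hdvdm : ∀ χ : IrrCharacter G, ¬ p ∣ charDegree (χ : G → ℂ) → charDegree (χ : G → ℂ) ∣ n * (e * c) := by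
    intro χ hχ
    have h1 := charDegree_dvd_card χ
    rw [hG] at h1
    exact ((Nat.Prime.coprime_iff_not_dvd hp.out).mpr hχ).symm.dvd_of_dvd_mul_left h1
  obtain ⟨M, hM⟩ := CfsgLib.Blocks.exists_isPModular p hp.out
  haveI := CfsgLib.Blocks.isMaximal_of_isPModular hM
  have he' : (centralizer (zpowers u : Set G)).relIndex (normalizer (zpowers u : Set G)) = e := by rw [hz]
  obtain ⟨X, Y, hd, hB, hX, hY, εX, ε, hε, hXp, hYp, hrel⟩ :=
    CfsgLib.Blocks.OrderP.principal_block_structure hM hu hidx he'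
  have h1deg : charDegree (oneChar G : G → ℂ) = 1 :=
    charDegree_eq_of_map_one (by rw [oneChar_apply, Nat.cast_one])
  have hecp : e ≤ e * c := Nat.le_mul_of_pos_right e hc0
  have hone : oneChar G ∈ X := by
    refine ((hB _).mp CfsgLib.Blocks.oneChar_mem_principalBlock).resolve_right fun hmemY => ?_
    have h1 := hYp _ hmemY
    rw [h1deg, Int.modEq_iff_dvd] at h1
    have h3 := Int.natAbs_le_of_dvd_ne_zero h1
      (by rcases hε with rfl | rfl <;> simp <;> omega)
    rcases hε with rfl | rfl <;> simp at h3 <;> omega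
  have hε1 : εX (oneChar G) = 1 := by
    obtain ⟨hs, hcong, -⟩ := hXp _ hone
    rw [h1deg] at hcong
    rcases hs with h | h
    · exact h
    · rw [h, Int.modEq_iff_dvd] at hcong
      have := Int.natAbs_le_of_dvd_ne_zero hcong (by norm_num)
      simp at this; omega
  -- all nontrivial non-exceptional degrees equal `n`
  have hXn : ∀ χ ∈ X.erase (oneChar G), εX χ = 1 ∧ charDegree (χ : G → ℂ) = n := by
    intro χ hχ
    obtain ⟨hne, hχX⟩ := Finset.mem_erase.mp hχ
    obtain ⟨hs, hcong, -⟩ := hXp χ hχX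
    have hd2 := CfsgLib.M11Order.one_lt_charDegree hc hne
    set d := charDegree (χ : G → ℂ) with hdd
    have hcZ : ((d : ℤ) : ZMod p) = ((εX χ : ℤ) : ZMod p) :=
      (ZMod.intCast_eq_intCast_iff _ _ p).mpr hcong
    have hnp : ¬ p ∣ d := by
      intro hdiv
      rw [Int.cast_natCast, (ZMod.natCast_eq_zero_iff d p).mpr hdiv] at hcZ
      rcases hs with h | h <;> rw [h] at hcZ <;> simp at hcZ
    obtain ⟨f, hf⟩ := hdvdm χ hnp
    rw [← hdd] at hf
    have hfZ : ((εX χ : ℤ) : ZMod p) * (f : ZMod p) = ((e * c : ℕ) : ZMod p) := by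
      rw [← hcZ, Int.cast_natCast, ← Nat.cast_mul, ← hf, Nat.cast_mul]
      rw [Int.cast_natCast] at hnZ
      rw [hnZ, one_mul]
    have hf0 : 0 < f := by
      rcases Nat.eq_zero_or_pos f with h | h
      · subst h; simp at hf; rcases hf with h | h | h <;> omega
      · exact h
    rcases hs with h | h
    · rw [h, Int.cast_one, one_mul, ZMod.natCast_eq_natCast_iff'] at hfZ
      have hd3 : p + 1 ≤ d := by
        rw [h, Int.cast_natCast, Int.cast_one, ← Nat.cast_one, ZMod.natCast_eq_natCast_iff',
          Nat.mod_eq_of_lt hp.out.one_lt] at hcZ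
        have h2 := Nat.div_add_mod d p
        rw [hcZ] at h2
        have h3 : d / p ≠ 0 := fun h => by rw [h] at h2; omega
        have : p * 1 ≤ p * (d / p) := Nat.mul_le_mul_left p (Nat.pos_of_ne_zero h3)
        omega
      have hfp : f < p := by
        by_contra h'
        have h4 : (p + 1) * p ≤ d * f := Nat.mul_le_mul hd3 (by omega)
        have h5 : (p + 1) * (p - 1) ≤ (p + 1) * p := Nat.mul_le_mul_left _ (by omega)
        omega
      rw [Nat.mod_eq_of_lt hfp, Nat.mod_eq_of_lt (by omega)] at hfZ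
      refine ⟨h, Nat.eq_of_mul_eq_mul_right hf0 ?_⟩
      rw [← hf, hfZ]
    · exfalso
      rw [h] at hfZ hcZ
      simp only [Int.cast_neg, Int.cast_one, neg_mul, one_mul, Int.cast_natCast] at hfZ hcZ
      have hsum : p ∣ f + e * c := by
        rw [← ZMod.natCast_eq_zero_iff, Nat.cast_add, ← hfZ]
        simp
      have hf2 := Nat.le_of_dvd (by omega) hsum
      have hd4 : p ∣ d + 1 := by
        rw [← ZMod.natCast_eq_zero_iff, Nat.cast_add, hcZ]
        simp
      have hd5 := Nat.le_of_dvd (by omega) hd4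
      have h4 : (p - 1) * (p + 1) ≤ d * (2 * f) := Nat.mul_le_mul (by omega) (by omega)
      rw [show d * (2 * f) = 2 * (d * f) by ring, ← hf, mul_comm] at h4
      omega
  -- an exceptional character
  have hY0 : 0 < Y.card := by
    rw [hY]
    exact Nat.div_pos (by omega) (by omega)
  obtain ⟨θ, hθ⟩ := Finset.card_pos.mp hY0
  set x := charDegree (θ : G → ℂ) with hx
  have hxeq : (ε : ℤ) * x = 1 + ((e - 1 : ℕ) : ℤ) * n := by
    have h1 := hrel θ hθ 1 (by rw [orderOf_one]; exact hp.out.not_dvd_one)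
    rw [← Finset.add_sum_erase _ _ hone, hε1, oneChar_apply, Int.cast_one, one_mul,
      Finset.sum_congr rfl (g := fun _ => (n : ℂ)) (fun χ hχ => by
        rw [(hXn χ hχ).1, ← coe_charDegree, (hXn χ hχ).2]; simp),
      Finset.sum_const, Finset.card_erase_of_mem hone, hX, nsmul_eq_mul, ← coe_charDegree, ← hx] at h1
    exact_mod_cast h1
  have hxN : x = 1 + (e - 1) * n := by
    rcases hε with rfl | rfl
    · rw [one_mul] at hxeq; exact_mod_cast hxeq
    · have : (0 : ℤ) ≤ ((e - 1 : ℕ) : ℤ) * n := by positivity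
      omega
  have hxnp : ¬ p ∣ x := by
    intro hdiv
    rw [← ZMod.natCast_eq_zero_iff, hxN] at hdiv
    push_cast at hdiv
    rw [Int.cast_natCast] at hnZ
    rw [hnZ, mul_one, add_comm, Nat.cast_sub (by omega), Nat.cast_one, sub_add_cancel,
      ZMod.natCast_eq_zero_iff] at hdiv
    exact absurd (Nat.le_of_dvd (by omega) hdiv) (by omega)
  have hxe : x ∣ e * c := by
    refine Nat.Coprime.dvd_of_dvd_mul_left ?_ (hdvdm θ hxnp)
    rw [hxN, Nat.coprime_add_mul_right_left]
    exact Nat.coprime_one_left _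
  have hxle := Nat.le_of_dvd (Nat.mul_pos (by omega) hc0) hxe
  have h1 : 1 * n ≤ (e - 1) * n := Nat.mul_le_mul_right _ (by omega)
  omega

end CfsgLib.LeastNonClosed
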